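import Cfsg.Agent.Transfer.Frobenius
import Mathlib.Tactic

/-!
An involution fixing one point whose products with commuting conjugates also fix one point is central in a
Sylow `2`-subgroup.
-/

set_option autoImplicit false

namespace CfsgLib.IsolatedPoint

variable {G : Type*} [Group G] [Finite G]

/-- Elements conjugate by `L` to `s`. -/
theorem card_conj (L : Subgroup G) (s : G) (S : Set G) (hin : ∀ l ∈ L, l * s * l⁻¹ ∈ S)
    (hall : ∀ y ∈ S, ∃ l ∈ L, l * s * l⁻¹ = y) : Nat.card S = (Subgroup.centralizer ({s} : Set G)).relIndex L := by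
  let f : L → S := fun l => ⟨(l : G) * s * (l : G)⁻¹, hin _ l.2⟩
  have hf : ∀ a b : L, a⁻¹ * b ∈ (Subgroup.centralizer ({s} : Set G)).subgroupOf L ↔ f a = f b := by
    intro a b
    rw [Subgroup.mem_subgroupOf, Subgroup.mem_centralizer_singleton_iff]
    push_cast
    simp only [f, Subtype.mk.injEq]
    constructor
    · intro h
      calc (a : G) * s * (a : G)⁻¹ = a * (s * ((a : G)⁻¹ * b)) * (b : G)⁻¹ := by group
        _ = a * (((a : G)⁻¹ * b) * s) * (b : G)⁻¹ := by rw [h]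
        _ = _ := by group
    · intro h
      calc (a : G)⁻¹ * b * s = (a : G)⁻¹ * (b * s * (b : G)⁻¹) * b := by group
        _ = (a : G)⁻¹ * (a * s * (a : G)⁻¹) * b := by rw [h]
        _ = _ := by group
  let e : ↥L ⧸ (Subgroup.centralizer ({s} : Set G)).subgroupOf L → S :=
    Quotient.lift f fun a b h => (hf a b).1 (QuotientGroup.leftRel_apply.1 h)
  symm
  refine Nat.card_eq_of_bijective e ⟨?_, fun ⟨y, hy⟩ => ?_⟩
  · rintro ⟨a⟩ ⟨b⟩ h
    exact QuotientGroup.eq.2 ((hf a b).2 h)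
  · obtain ⟨l, hl, rfl⟩ := hall y hy
    exact ⟨QuotientGroup.mk ⟨l, hl⟩, rfl⟩

/-- An involution with a single fixed point acts on an odd number of points. -/
theorem odd_index (H : Subgroup G) {z : G} (hz : z * z = 1)
    (hfix : ∀ q : G ⧸ H, z • q = q → q = QuotientGroup.mk 1) (hzH : z ∈ H) : Odd H.index := by
  classical
  let _ : Fintype (G ⧸ H) := Fintype.ofFinite _
  let σ : Equiv.Perm (G ⧸ H) := MulAction.toPerm z
  have hσ : σ ^ 2 ^ 1 = 1 := Equiv.ext fun q => by simp [σ, pow_two, smul_smul, hz]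
  have hset : σ.supportᶜ = {QuotientGroup.mk 1} := by
    ext q
    simp only [Finset.mem_compl, Equiv.Perm.mem_support, not_not, Finset.mem_singleton]
    refine ⟨hfix q, ?_⟩
    rintro rfl
    show z • (QuotientGroup.mk 1 : G ⧸ H) = _
    rw [← MulAction.mem_stabilizer_iff]
    simpa using hzH
  haveI : Fact (Nat.Prime 2) := ⟨Nat.prime_two⟩
  have h := Equiv.Perm.card_compl_support_modEq hσ
  rw [hset, Finset.card_singleton, ← Nat.card_eq_fintype_card] at h
  exact Nat.odd_iff.2 h.symm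

/-- A product of two conjugates of `z` fixing two points has odd order. -/
theorem odd_orderOf_mul {H : Subgroup G} {z : G} {s s' : G} (hs : IsConj z s) (hs' : IsConj z s') (hz : z * z = 1)
    (hone : ∀ a b : G, IsConj z a → IsConj z b → a ≠ b → a * b = b * a → ∀ p q : G ⧸ H, (a * b) • p = p →
      (a * b) • q = q → p = q) {p q : G ⧸ H} (hpq : p ≠ q)
    (hp : ∀ j ∈ Subgroup.zpowers (s * s'), s * j = j * s → s' * j = j * s' → j • p = p)
    (hq : ∀ j ∈ Subgroup.zpowers (s * s'), s * j = j * s → s' * j = j * s' → j • q = q) : Odd (orderOf (s * s')) := by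
  by_contra hev
  rw [Nat.not_odd_iff_even] at hev
  obtain ⟨m, hm⟩ := hev
  have hss : ∀ a : G, IsConj z a → a * a = 1 := by
    intro a ha
    obtain ⟨c, rfl⟩ := isConj_iff.1 ha
    calc c * z * c⁻¹ * (c * z * c⁻¹) = c * (z * z) * c⁻¹ := by group
      _ = 1 := by rw [hz]; group
  set d := s * s' with hd
  have hdpos : 0 < m := by
    have := orderOf_pos d
    omega
  have hsd : s * d * s⁻¹ = d⁻¹ := by
    have h1 : s⁻¹ = s := inv_eq_of_mul_eq_one_right (hss s hs)
    have h2 : s'⁻¹ = s' := inv_eq_of_mul_eq_one_right (hss s' hs')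
    calc s * d * s⁻¹ = (s * s) * s' * s⁻¹ := by rw [hd]; group
      _ = s'⁻¹ * s⁻¹ := by rw [hss s hs, h2, one_mul]
      _ = d⁻¹ := by rw [hd, mul_inv_rev]
  have hpow : ∀ i : ℕ, s * d ^ i * s⁻¹ = (d ^ i)⁻¹ := fun i => by rw [← conj_pow, hsd, inv_pow]
  set j := d ^ m with hj
  have hj2 : j * j = 1 := by rw [hj, ← pow_add, ← hm, pow_orderOf_eq_one]
  have hj1 : j ≠ 1 := pow_ne_one_of_lt_orderOf hdpos.ne' (by omega)
  have hsj : s * j = j * s := by
    have h := hpow m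
    rw [← hj, inv_eq_of_mul_eq_one_right hj2] at h
    exact mul_inv_eq_iff_eq_mul.1 h
  have hdj : d * j = j * d := (Commute.self_pow d m).eq
  have hs'j : s' * j = j * s' := by
    have h1 : s⁻¹ * j = j * s⁻¹ := ((show Commute s j from hsj).inv_left).eq
    calc s' * j = s⁻¹ * (d * j) := by rw [hd]; group
      _ = s⁻¹ * (j * d) := by rw [hdj]
      _ = j * s⁻¹ * d := by rw [← mul_assoc, h1]
      _ = j * s' := by rw [hd]; group
  -- `s j` is conjugate to `z`
  have hbc : IsConj z (s * j) := by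
    have key : ∀ i : ℕ, s * d ^ (2 * i) = (d ^ i)⁻¹ * s * d ^ i := fun i => by
      rw [← hpow i]
      group
    obtain ⟨i, hi | hi⟩ := Nat.even_or_odd' m
    · rw [hj, hi, key]
      exact hs.trans (isConj_iff.2 ⟨(d ^ i)⁻¹, by rw [inv_inv]⟩)
    · rw [hj, hi, pow_succ, ← mul_assoc, key, mul_assoc ((d ^ i)⁻¹ * s), (Commute.self_pow d i).symm.eq,
        ← mul_assoc, mul_assoc (d ^ i)⁻¹ s d]
      have h1 : s * d = s' := by rw [hd, ← mul_assoc, hss s hs, one_mul]
      rw [h1]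
      exact hs'.trans (isConj_iff.2 ⟨(d ^ i)⁻¹, by rw [inv_inv]⟩)
  have hne : s ≠ s * j := fun e => hj1 ((mul_eq_left.1 e.symm))
  have hcomm : s * (s * j) = s * j * s := by rw [mul_assoc, ← hsj]
  have hprod : s * (s * j) = j := by rw [← mul_assoc, hss s hs, one_mul]
  exact hpq (hone s (s * j) hs hbc hne hcomm p q
    (by rw [hprod]; exact hp j (Subgroup.npow_mem_zpowers d m) hsj hs'j)
    (by rw [hprod]; exact hq j (Subgroup.npow_mem_zpowers d m) hsj hs'j))

theorem exists_sylow_central {H : Subgroup G} (hH : H ≠ ⊤) {z : G} (hz : orderOf z = 2)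
    (h0 : ∀ g : G, z ∈ H.map (MulAut.conj g).toMonoidHom ↔ g ∈ H)
    (h1 : ∀ t : G, IsConj z t → t ≠ z → t * z = z * t → ∀ g : G,
      z * t ∈ H.map (MulAut.conj g).toMonoidHom ↔ g ∈ H) :
    ∃ P : Sylow 2 G, z ∈ (Subgroup.center ↥(P : Subgroup G)).map (P : Subgroup G).subtype := by
  haveI : Fact (Nat.Prime 2) := ⟨Nat.prime_two⟩
  have hz2 : z * z = 1 := by rw [← pow_two, ← hz, pow_orderOf_eq_one]
  have hmem : ∀ (y x : G), y ∈ H.map (MulAut.conj x).toMonoidHom ↔ y • (QuotientGroup.mk x : G ⧸ H) = QuotientGroup.mk x := by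
    intro y x
    rw [MulAction.Quotient.smul_mk, QuotientGroup.eq, Subgroup.mem_map]
    constructor
    · rintro ⟨w, hw, rfl⟩
      simpa [mul_assoc] using H.inv_mem hw
    · intro h
      refine ⟨x⁻¹ * y * x, ?_, by simp [mul_assoc]⟩
      simpa [mul_assoc] using H.inv_mem h
  have hone_iff : ∀ x : G, (QuotientGroup.mk x : G ⧸ H) = QuotientGroup.mk 1 ↔ x ∈ H := fun x => by
    rw [QuotientGroup.eq]
    simp
  set α : G ⧸ H := QuotientGroup.mk 1 with hα
  have hzfix : ∀ p : G ⧸ H, z • p = p ↔ p = α := by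
    intro p
    obtain ⟨x, rfl⟩ := QuotientGroup.mk_surjective p
    rw [← hmem, h0, hone_iff]
  have hfix : ∀ (s : G), IsConj z s → ∀ p q : G ⧸ H, s • p = p → s • q = q → p = q := by
    intro s hs p q hp hq
    obtain ⟨c, rfl⟩ := isConj_iff.1 hs
    have hp' : z • (c⁻¹ • p) = c⁻¹ • p := by
      conv_rhs => rw [← hp]
      simp [smul_smul, mul_assoc]
    have hq' : z • (c⁻¹ • q) = c⁻¹ • q := by
      conv_rhs => rw [← hq]
      simp [smul_smul, mul_assoc]
    exact smul_left_cancel c⁻¹ (((hzfix _).1 hp').trans ((hzfix _).1 hq').symm)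
  have hcomfix : ∀ s : G, IsConj z s → ∀ j : G, s * j = j * s → ∀ p : G ⧸ H, s • p = p → j • p = p := by
    intro s hs j hj p hp
    refine hfix s hs _ _ ?_ hp
    rw [smul_smul, hj, ← smul_smul, hp]
  have hone : ∀ a b : G, IsConj z a → IsConj z b → a ≠ b → a * b = b * a → ∀ p q : G ⧸ H, (a * b) • p = p →
      (a * b) • q = q → p = q := by
    intro a b ha hb hne hab p q hp hq
    obtain ⟨c, rfl⟩ := isConj_iff.1 ha
    have hb' : IsConj z (c⁻¹ * b * c) := hb.trans (isConj_iff.2 ⟨c⁻¹, by simp⟩)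
    have hne' : c⁻¹ * b * c ≠ z := fun e => hne (by rw [← e]; group)
    have hcom : c⁻¹ * b * c * z = z * (c⁻¹ * b * c) := by
      calc c⁻¹ * b * c * z = c⁻¹ * (b * (c * z * c⁻¹)) * c := by group
        _ = c⁻¹ * (c * z * c⁻¹ * b) * c := by rw [hab]
        _ = _ := by group
    have key : ∀ r : G ⧸ H, (c * z * c⁻¹ * b) • r = r → c⁻¹ • r = α := by
      intro r hr
      obtain ⟨x, hx⟩ := QuotientGroup.mk_surjective (c⁻¹ • r)
      rw [← hx, hone_iff, ← h1 _ hb' hne' hcom x, hmem, hx]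
      conv_rhs => rw [← hr]
      simp [smul_smul, mul_assoc]
    exact smul_left_cancel c⁻¹ ((key p hp).trans (key q hq).symm)
  -- two points
  obtain ⟨g, hg⟩ : ∃ g : G, g ∉ H := by
    by_contra hcon
    push Not at hcon
    exact hH ((Subgroup.eq_top_iff' H).2 hcon)
  set β : G ⧸ H := QuotientGroup.mk g with hβ
  have hαβ : α ≠ β := fun e => hg ((hone_iff g).1 e.symm)
  set u := g * z * g⁻¹ with hu
  have huc : IsConj z u := isConj_iff.2 ⟨g, rfl⟩
  have huβ : u • β = β := by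
    have h2 : (g⁻¹ : G) • β = α := by rw [hβ, hα, MulAction.Quotient.smul_mk, smul_eq_mul, inv_mul_cancel]
    rw [hu, mul_smul, mul_smul, h2, (hzfix α).2 rfl, hα, hβ, MulAction.Quotient.smul_mk, smul_eq_mul, mul_one]
  have hss : ∀ a : G, IsConj z a → a * a = 1 := by
    intro a ha
    obtain ⟨c, rfl⟩ := isConj_iff.1 ha
    calc c * z * c⁻¹ * (c * z * c⁻¹) = c * (z * z) * c⁻¹ := by group
      _ = 1 := by rw [hz2]; group
  have hinv : ∀ a : G, IsConj z a → a⁻¹ = a := fun a ha => inv_eq_of_mul_eq_one_right (hss a ha)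
  set C : Set G := {s | IsConj z s ∧ s • α = α} with hC
  set M : Set G := {m | IsConj z m ∧ m • α = β} with hM
  have hodd : ∀ s ∈ C, ∀ (m : G) (r : G ⧸ H), IsConj z m → m • r = r → r ≠ α → Odd (orderOf (s * m)) :=
    fun s hs m r hm hmr hr => odd_orderOf_mul hs.1 hm hz2 hone (Ne.symm hr)
      (fun j _ hj _ => hcomfix s hs.1 j hj α hs.2) (fun j _ _ hj => hcomfix m hm j hj r hmr)
  have hfixm : ∀ m : G, IsConj z m → ∃ r : G ⧸ H, m • r = r := by
    intro m hm
    obtain ⟨c, rfl⟩ := isConj_iff.1 hm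
    exact ⟨c • α, by simp [smul_smul, mul_assoc]; rw [← smul_smul, (hzfix α).2 rfl]⟩
  let f : G → G := fun s => s * (s * u) ^ ((orderOf (s * u) + 1) / 2)
  have hf : ∀ s ∈ C, f s ∈ M ∧ f s * s * f s = u := by
    intro s hs
    obtain ⟨i, hi⟩ := hodd s hs u β huc huβ (Ne.symm hαβ)
    have e : (orderOf (s * u) + 1) / 2 = i + 1 := by omega
    simp only [f, e]
    set d := s * u with hd
    have hsd : s * d * s⁻¹ = d⁻¹ := by
      rw [hd, mul_inv_rev, hinv u huc, hinv s hs.1, ← mul_assoc, hss s hs.1, one_mul]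
    have hpow : ∀ k : ℕ, s * d ^ k * s⁻¹ = (d ^ k)⁻¹ := fun k => by rw [← conj_pow, hsd, inv_pow]
    have hord : d ^ (2 * i + 1) = 1 := by rw [← hi, pow_orderOf_eq_one]
    have h7 : s * d ^ (i + 1) * s⁻¹ = d ^ i := by
      rw [hpow]
      exact inv_eq_of_mul_eq_one_right (by rw [← pow_add, show i + 1 + i = 2 * i + 1 by omega, hord])
    have h8 : s * d ^ (i + 1) = d ^ i * s := mul_inv_eq_iff_eq_mul.1 h7
    have hmc : IsConj z (s * d ^ (i + 1)) := by
      -- `d ^ i s` is the conjugate of `s` by a power of `d`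
      obtain ⟨k, hk⟩ : ∃ k : ℕ, d ^ (2 * k) = d ^ i := by
        refine ⟨i * (i + 1), ?_⟩
        calc d ^ (2 * (i * (i + 1))) = d ^ ((2 * i + 1) * i + i) := by congr 1; ring
          _ = d ^ i := by rw [pow_add, pow_mul, hord, one_pow, one_mul]
      rw [h8, ← hk]
      refine hs.1.trans (isConj_iff.2 ⟨d ^ k, ?_⟩)
      rw [two_mul, pow_add, ← hpow k]
      calc d ^ k * s * (s * d ^ k * s⁻¹) = d ^ k * (s * s) * d ^ k * s⁻¹ := by group
        _ = d ^ k * d ^ k * s := by rw [hss s hs.1, mul_one, hinv s hs.1]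
    have hmid : s * d ^ (i + 1) * s * (s * d ^ (i + 1)) = u := by
      calc s * d ^ (i + 1) * s * (s * d ^ (i + 1)) = s * d ^ (i + 1) * (s * s) * d ^ (i + 1) := by group
        _ = s * d ^ (2 * i + 1 + 1) := by rw [hss s hs.1, mul_one, mul_assoc, ← pow_add]; congr 2; omega
        _ = u := by rw [pow_succ, hord, one_mul, hd, ← mul_assoc, hss s hs.1, one_mul]
    refine ⟨⟨hmc, hfix u huc _ _ ?_ huβ⟩, hmid⟩
    conv_lhs => rw [← hmid]
    rw [smul_smul, show s * d ^ (i + 1) * s * (s * d ^ (i + 1)) * (s * d ^ (i + 1)) = s * d ^ (i + 1) * s by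
      rw [mul_assoc (s * d ^ (i + 1) * s), hss _ hmc, mul_one], mul_smul, hs.2]
  have hinj : Set.InjOn f C := by
    intro a ha b hb hab
    have e1 := (hf a ha).2
    rw [hab] at e1
    exact mul_left_cancel (mul_right_cancel (e1.trans (hf b hb).2.symm))
  have hsurj : ∀ m ∈ M, ∃ s ∈ C, f s = m := by
    intro m hm
    have hsC : m * u * m ∈ C := by
      refine ⟨huc.trans (isConj_iff.2 ⟨m, by rw [hinv m hm.1]⟩), ?_⟩
      have hmβ : m • β = α := by rw [← hm.2, smul_smul, hss m hm.1, one_smul]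
      simp only [mul_smul]
      rw [hm.2, huβ, hmβ]
    refine ⟨m * u * m, hsC, ?_⟩
    set s := m * u * m with hs
    obtain ⟨r, hr⟩ := hfixm m hm.1
    have hrα : r ≠ α := fun e => hαβ (by rw [e] at hr; exact hr.symm.trans hm.2)
    obtain ⟨i, hi⟩ := hodd s hsC m r hm.1 hr hrα
    obtain ⟨k, hk⟩ := hodd s hsC u β huc huβ (Ne.symm hαβ)
    have hum : u = m * s * m := by
      rw [hs, show m * (m * u * m) * m = (m * m) * u * (m * m) by group, hss m hm.1, one_mul, mul_one]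
    set e := s * m with he
    have hde : s * u = e ^ 2 := by rw [hum, pow_two, he]; group
    have hek : 2 * k + 1 = 2 * i + 1 := by
      rw [← hk, ← hi, hde, orderOf_pow, hi, Nat.Coprime.gcd_eq_one (Nat.coprime_two_right.2 ⟨i, rfl⟩), Nat.div_one]
    simp only [f, hk]
    rw [show (2 * k + 1 + 1) / 2 = i + 1 by omega, hde, ← pow_mul,
      show 2 * (i + 1) = (2 * i + 1) + 1 by omega, pow_succ, ← hi, pow_orderOf_eq_one, one_mul, he, ← mul_assoc,
      hss s hsC.1, one_mul]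
  have hzC : z ∈ C := ⟨IsConj.refl z, (hzfix α).2 rfl⟩
  obtain ⟨m₀, hm₀M⟩ : ∃ m₀, m₀ ∈ M := ⟨f z, (hf z hzC).1⟩
  have hcardM : Nat.card C = Nat.card M := by
    refine Nat.card_eq_of_bijective (fun s : C => (⟨f s, (hf s s.2).1⟩ : M)) ⟨fun a b h => Subtype.ext
      (hinj a.2 b.2 (congrArg Subtype.val h)), fun ⟨m, hm⟩ => ?_⟩
    obtain ⟨s, hs, rfl⟩ := hsurj m hm
    exact ⟨⟨s, hs⟩, rfl⟩
  -- `M` is one class of `K`
  set K := MulAction.stabilizer G α ⊓ MulAction.stabilizer G β with hK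
  have hswap : ∀ m ∈ M, m • β = α := fun m hm => by rw [← hm.2, smul_smul, hss m hm.1, one_smul]
  have hKM : ∀ k ∈ K, k * m₀ * k⁻¹ ∈ M := by
    intro k hk
    refine ⟨hm₀M.1.trans (isConj_iff.2 ⟨k, rfl⟩), ?_⟩
    rw [mul_smul, mul_smul, show k⁻¹ • α = α from (MulAction.stabilizer G α).inv_mem hk.1, hm₀M.2]
    exact hk.2
  have hprodK : ∀ m ∈ M, m₀ * m ∈ K := by
    intro m hm
    refine ⟨MulAction.mem_stabilizer_iff.2 ?_, MulAction.mem_stabilizer_iff.2 ?_⟩ <;> rw [mul_smul]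
    · rw [hm.2, hswap m₀ hm₀M]
    · rw [hswap m hm, hm₀M.2]
  have hoddM : ∀ m ∈ M, Odd (orderOf (m₀ * m)) := fun m hm => odd_orderOf_mul hm₀M.1 hm.1 hz2 hone hαβ
    (fun j hj _ _ => (Subgroup.zpowers_le.2 (hprodK m hm) hj).1)
    (fun j hj _ _ => (Subgroup.zpowers_le.2 (hprodK m hm) hj).2)
  have htrans : ∀ m ∈ M, ∃ k ∈ K, k * m₀ * k⁻¹ = m := by
    intro m hm
    obtain ⟨i, hi⟩ := hoddM m hm
    set d := m₀ * m with hd
    refine ⟨d ^ i, K.pow_mem (hprodK m hm) i, ?_⟩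
    have h2 : m₀ * d * m₀⁻¹ = d⁻¹ := by
      rw [hd, mul_inv_rev, hinv m hm.1, hinv m₀ hm₀M.1, ← mul_assoc, hss m₀ hm₀M.1, one_mul]
    have h3 : m₀ * (d ^ i)⁻¹ * m₀⁻¹ = d ^ i := by
      rw [show m₀ * (d ^ i)⁻¹ * m₀⁻¹ = (m₀ * d ^ i * m₀⁻¹)⁻¹ by group, ← conj_pow, h2, inv_pow, inv_inv]
    calc d ^ i * m₀ * (d ^ i)⁻¹ = d ^ i * (m₀ * (d ^ i)⁻¹ * m₀⁻¹) * m₀ := by group
      _ = d ^ (2 * i) * m₀ := by rw [h3, two_mul, pow_add]
      _ = d⁻¹ * m₀ := by
          rw [eq_inv_of_mul_eq_one_left (show d ^ (2 * i) * d = 1 by rw [← pow_succ, ← hi, pow_orderOf_eq_one])]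
      _ = m := by rw [hd, mul_inv_rev, inv_mul_cancel_right, hinv m hm.1]
  have hoddK : ¬ 2 ∣ (Subgroup.centralizer ({m₀} : Set G)).relIndex K := by
    have hm₀K : m₀ ∈ Subgroup.normalizer (K : Set G) := by
      refine Subgroup.mem_normalizer_fintype fun k hk => ⟨MulAction.mem_stabilizer_iff.2 ?_, MulAction.mem_stabilizer_iff.2 ?_⟩ <;>
        rw [mul_smul, mul_smul, hinv m₀ hm₀M.1]
      · rw [hm₀M.2, show k • β = β from hk.2, hswap m₀ hm₀M]
      · rw [hswap m₀ hm₀M, show k • α = α from hk.1, hm₀M.2]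
    set N := Subgroup.normalizer (K : Set G) with hN
    haveI : (K.subgroupOf N).Normal := Subgroup.normal_in_normalizer
    have hm2 : IsPGroup 2 (Subgroup.zpowers (⟨m₀, hm₀K⟩ : N)) := by
      refine IsPGroup.of_card (n := 1) ?_
      rw [Nat.card_zpowers, pow_one]
      refine orderOf_eq_prime (Subtype.ext (by rw [Subgroup.coe_pow, pow_two]; exact hss m₀ hm₀M.1)) fun e => ?_
      have e' : m₀ = 1 := congrArg Subtype.val e
      exact hαβ (by rw [← hm₀M.2, e', one_smul])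
    obtain ⟨P, hP⟩ := hm2.exists_le_sylow
    obtain ⟨R, hR⟩ := CfsgLib.Transfer.exists_sylow_map_eq_inf P (K.subgroupOf N)
    have h9 : ((P : Subgroup N) ⊓ K.subgroupOf N) ≤ (Subgroup.centralizer ({m₀} : Set G)).subgroupOf N := by
      intro e he
      rw [Subgroup.mem_subgroupOf, Subgroup.mem_centralizer_singleton_iff]
      set m := (e : G) * m₀ * (e : G)⁻¹ with hm
      have hmM := hKM e he.2
      have hfP : (⟨m₀, hm₀K⟩ : N) * (e * ⟨m₀, hm₀K⟩ * e⁻¹) ∈ (P : Subgroup N) :=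
        mul_mem (hP (Subgroup.mem_zpowers _)) (mul_mem (mul_mem he.1 (hP (Subgroup.mem_zpowers _))) (inv_mem he.1))
      obtain ⟨j, hj⟩ := IsPGroup.iff_orderOf.1 P.isPGroup' ⟨_, hfP⟩
      rw [← Subgroup.orderOf_coe, ← Subgroup.orderOf_coe] at hj
      have h10 := hoddM m hmM
      have hval : (((⟨(⟨m₀, hm₀K⟩ : N) * (e * ⟨m₀, hm₀K⟩ * e⁻¹), hfP⟩ : ↥(P : Subgroup N)) : N) : G) = m₀ * m := rfl
      rw [hval] at hj
      rw [hj] at h10
      have hj0 : j = 0 := by
        by_contra hj0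
        exact Nat.not_even_iff_odd.2 h10 (Nat.even_pow.2 ⟨even_two, hj0⟩)
      rw [hj0, pow_zero, orderOf_eq_one_iff] at hj
      have h11 : m = m₀ := by rw [← inv_inv m, ← eq_inv_of_mul_eq_one_left hj, hinv m₀ hm₀M.1]
      exact mul_inv_eq_iff_eq_mul.1 h11
    have hKN : K ≤ N := Subgroup.le_normalizer
    rw [← Subgroup.relIndex_subgroupOf (H := Subgroup.centralizer ({m₀} : Set G)) hKN]
    refine fun h => R.not_dvd_index (h.trans (Subgroup.index_dvd_of_le fun a ha => h9 ?_))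
    exact hR.le ⟨a, ha, rfl⟩
  have hc : Nat.card C = (Subgroup.centralizer ({z} : Set G)).relIndex H := by
    refine card_conj H z C (fun h hh => ⟨isConj_iff.2 ⟨h, rfl⟩, ?_⟩) fun y hy => ?_
    · have hhα : ∀ w ∈ H, w • α = α := fun w hw => by
        rw [hα, MulAction.Quotient.smul_mk, smul_eq_mul, mul_one]
        exact (hone_iff w).2 hw
      rw [mul_smul, mul_smul, hhα _ (H.inv_mem hh), (hzfix α).2 rfl, hhα _ hh]
    · obtain ⟨c, rfl⟩ := isConj_iff.1 hy.1
      refine ⟨c, ?_, rfl⟩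
      have h2 : z • (c⁻¹ • α) = c⁻¹ • α := by
        conv_rhs => rw [← hy.2]
        simp [smul_smul, mul_assoc]
      rw [hzfix, hα, MulAction.Quotient.smul_mk, smul_eq_mul, mul_one, hone_iff] at h2
      simpa using H.inv_mem h2
  have hzH : z ∈ H := by simpa using (h0 1).2 H.one_mem
  have hCH : Subgroup.centralizer ({z} : Set G) ≤ H := fun c hc' => (h0 c).1
    ⟨z, hzH, by simp [Subgroup.mem_centralizer_singleton_iff.1 hc']⟩
  have hidx : ¬ 2 ∣ (Subgroup.centralizer ({z} : Set G)).index := by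
    rw [← Subgroup.relIndex_mul_index hCH, Nat.Prime.dvd_mul Nat.prime_two, ← hc, hcardM,
      card_conj K m₀ M hKM htrans]
    exact not_or.2 ⟨hoddK, Nat.two_dvd_ne_zero.2 (Nat.odd_iff.1 (odd_index H hz2 (fun q => (hzfix q).1) hzH))⟩
  obtain ⟨W⟩ : Nonempty (Sylow 2 ↥(Subgroup.centralizer ({z} : Set G))) := inferInstance
  set P₀ := (W : Subgroup ↥(Subgroup.centralizer ({z} : Set G))).map (Subgroup.centralizer ({z} : Set G)).subtype with hP₀
  have hP₀i : ¬ 2 ∣ P₀.index := by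
    rw [← Subgroup.relIndex_mul_index (Subgroup.map_subtype_le (W : Subgroup ↥(Subgroup.centralizer ({z} : Set G)))),
      Nat.Prime.dvd_mul Nat.prime_two]
    refine not_or.2 ⟨?_, hidx⟩
    rw [Subgroup.relIndex, Subgroup.subgroupOf, Subgroup.comap_map_eq_self_of_injective (Subgroup.subtype_injective _)]
    exact W.not_dvd_index
  have hzcent : (⟨z, Subgroup.mem_centralizer_singleton_iff.2 rfl⟩ : ↥(Subgroup.centralizer ({z} : Set G))) ∈
      (W : Subgroup ↥(Subgroup.centralizer ({z} : Set G))) := by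
    set zc : ↥(Subgroup.centralizer ({z} : Set G)) := ⟨z, Subgroup.mem_centralizer_singleton_iff.2 rfl⟩
    have h12 : IsPGroup 2 (Subgroup.zpowers zc) := IsPGroup.of_card (n := 1) (by
      rw [Nat.card_zpowers, pow_one, ← Subgroup.orderOf_coe]; exact hz)
    haveI : (Subgroup.zpowers zc).Normal := ⟨fun a ha b => by
      obtain ⟨k, rfl⟩ := Subgroup.mem_zpowers_iff.1 ha
      have hbz : Commute b zc := Subtype.ext (Subgroup.mem_centralizer_singleton_iff.1 b.2)
      rw [(hbz.zpow_right k).eq, mul_inv_cancel_right]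
      exact Subgroup.zpow_mem _ (Subgroup.mem_zpowers _) k⟩
    have h13 := W.3 (h12.to_sup_of_normal_left W.2) le_sup_right
    exact (le_sup_left.trans h13.le) (Subgroup.mem_zpowers _)
  refine ⟨(W.isPGroup'.map _).toSylow hP₀i, ⟨⟨z, ⟨_, hzcent, rfl⟩⟩, Subgroup.mem_center_iff.2 ?_, rfl⟩⟩
  rintro ⟨a, b, hb, rfl⟩
  exact Subtype.ext (Subgroup.mem_centralizer_singleton_iff.1 b.2)

end CfsgLib.IsolatedPoint
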